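import Cfsg.Agent.H776.Co.FusDef

/-!
S5227, C9: the linear group `GF F` induced on `A` by a saturated fusion system on `P` (task 3767).
-/

set_option autoImplicit false
set_option linter.style.longLine false

namespace Cfsg.Agent.H975.Co1

open Subgroup Cfsg Cfsg.FusionSystem Cfsg.Agent.H752 Cfsg.Agent.H776.Co Cfsg.Agent.H776.Co.P

/-! ### basics on `A` -/

/-- `A ≃ V` -/
def equivA : A ≃ Lin.V where
  toFun x := crd x
  invFun v := ⟨vec v, vec_mem v⟩
  left_inv x := Subtype.ext (vec_crd x.2)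
  right_inv v := crd_vec v

theorem card_A : Nat.card A = 3 ^ 6 := by
  rw [Nat.card_congr equivA, Nat.card_fun, Nat.card_zmod, Nat.card_eq_fintype_card, Fintype.card_fin]

theorem exists_vec {x : P} (hx : x ∈ A) : ∃ v, x = vec v := ⟨crd x, (vec_crd hx).symm⟩

theorem A_comm {x y : P} (hx : x ∈ A) (hy : y ∈ A) : x * y = y * x := by
  obtain ⟨u, rfl⟩ := exists_vec hx
  obtain ⟨v, rfl⟩ := exists_vec hy
  rw [← vec_add, ← vec_add, add_comm]

theorem A_pow {x : P} (hx : x ∈ A) : x ^ 3 = 1 := by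
  obtain ⟨u, rfl⟩ := exists_vec hx
  rw [pow_succ, pow_two, ← vec_add, ← vec_add, ← vec_zero]
  congr 1
  funext i
  simp only [Pi.add_apply, Pi.zero_apply]
  generalize u i = t
  revert t
  decide

theorem A_conj_mem (x : P) {y : P} (hy : y ∈ A) : x * y * x⁻¹ ∈ A := by
  obtain ⟨v, rfl⟩ := exists_vec hy
  rw [conj_vec]
  exact vec_mem _

theorem mem_normalizer_A (x : P) : x ∈ normalizer (A : Set P) := by
  rw [mem_normalizer_iff]
  intro y
  refine ⟨fun hy => A_conj_mem x hy, fun hy => ?_⟩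
  have := A_conj_mem x⁻¹ hy
  rwa [show x⁻¹ * (x * y * x⁻¹) * x⁻¹⁻¹ = y by group] at this

/-- the fixed points of a nontrivial element of `T` are determined by three coordinates -/
theorem fix_inj {a b c : ZMod 3} (h : ¬ (a = 0 ∧ b = 0 ∧ c = 0)) :
    ∃ i j k : Fin 6, ∀ v : Lin.V, Lin.tf a b c v = v → v i = 0 → v j = 0 → v k = 0 → v = 0 := by
  have key : ∀ v : Lin.V, Lin.tf a b c v = v → b * v 5 = 0 ∧ a * v 4 + c * v 5 = 0 ∧ 2 * b * v 4 + b ^ 2 * v 5 = 0 ∧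
      a * v 2 + c * v 4 + b * (v 3 + a * v 4 + c * v 5) = 0 ∧
      2 * a * v 1 + 2 * c * v 3 + a ^ 2 * v 2 + 2 * a * c * v 4 + c ^ 2 * v 5 = 0 := by
    intro v hv
    have a4 := congrFun hv 4
    have a3 := congrFun hv 3
    have a2 := congrFun hv 2
    have a1 := congrFun hv 1
    have a0 := congrFun hv 0
    simp only [Lin.tf, Matrix.cons_val] at a4 a3 a2 a1 a0
    refine ⟨?_, ?_, ?_, ?_, ?_⟩
    · linear_combination a4
    · linear_combination a3
    · linear_combination a2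
    · linear_combination a1
    · linear_combination a0
  by_cases hb : b = 0
  · by_cases ha : a = 0
    · subst ha hb
      have hc : c ≠ 0 := fun hc => h ⟨rfl, rfl, hc⟩
      refine ⟨0, 1, 2, fun v hv h0 h1 h2 => ?_⟩
      obtain ⟨k1, k2, k3, k4, k5⟩ := key v hv
      have v5 : v 5 = 0 := by
        have : c * v 5 = 0 := by linear_combination k2
        exact (mul_eq_zero.1 this).resolve_left hc
      have v4 : v 4 = 0 := by
        have : c * v 4 = 0 := by linear_combination k4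
        exact (mul_eq_zero.1 this).resolve_left hc
      have v3 : v 3 = 0 := by
        have : 2 * c * v 3 = 0 := by linear_combination k5 - c ^ 2 * v5
        exact (mul_eq_zero.1 this).resolve_left (mul_ne_zero (by decide) hc)
      funext i
      fin_cases i
      exacts [h0, h1, h2, v3, v4, v5]
    · subst hb
      refine ⟨0, 3, 5, fun v hv h0 h3 h5 => ?_⟩
      obtain ⟨k1, k2, k3, k4, k5⟩ := key v hv
      have v4 : v 4 = 0 := by
        have : a * v 4 = 0 := by linear_combination k2 - c * h5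
        exact (mul_eq_zero.1 this).resolve_left ha
      have v2 : v 2 = 0 := by
        have : a * v 2 = 0 := by linear_combination k4 - c * v4
        exact (mul_eq_zero.1 this).resolve_left ha
      have v1 : v 1 = 0 := by
        have : 2 * a * v 1 = 0 := by linear_combination k5 - 2 * c * h3 - a ^ 2 * v2 - 2 * a * c * v4 - c ^ 2 * h5
        exact (mul_eq_zero.1 this).resolve_left (mul_ne_zero (by decide) ha)
      funext i
      fin_cases i
      exacts [h0, v1, v2, h3, v4, h5]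
  · refine ⟨0, 1, 2, fun v hv h0 h1 h2 => ?_⟩
    obtain ⟨k1, k2, k3, k4, k5⟩ := key v hv
    have v5 : v 5 = 0 := (mul_eq_zero.1 k1).resolve_left hb
    have v4 : v 4 = 0 := by
      have : 2 * b * v 4 = 0 := by linear_combination k3 - b ^ 2 * v5
      exact (mul_eq_zero.1 this).resolve_left (mul_ne_zero (by decide) hb)
    have v3 : v 3 = 0 := by
      have : b * v 3 = 0 := by linear_combination k4 - a * h2 - c * v4 - a * b * v4 - b * c * v5
      exact (mul_eq_zero.1 this).resolve_left hb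
    funext i
    fin_cases i
    exacts [h0, h1, h2, v3, v4, v5]

theorem tf_sub (a b c : ZMod 3) (u v : Lin.V) : Lin.tf a b c (u - v) = Lin.tf a b c u - Lin.tf a b c v :=
  map_sub (Lin.tl a b c) u v

/-- `C_A(x)` has order at most 27 for `x ∉ A` -/
theorem card_fix_le {x : P} (hx : x ∉ A) {D : Subgroup P} (hD : D ≤ A) (hc : ∀ y ∈ D, x * y = y * x) : Nat.card D ≤ 27 := by
  obtain ⟨i, j, k, H⟩ := fix_inj (a := x.a) (b := x.b) (c := x.c) hx
  have hf : ∀ y ∈ D, Lin.tf x.a x.b x.c (crd y) = crd y := by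
    intro y hy
    apply vec_injective
    rw [← conj_vec, vec_crd (hD hy), hc y hy, mul_inv_cancel_right]
  have hinj : Function.Injective (fun y : D => (crd y i, crd y j, crd y k)) := by
    intro y z h
    simp only [Prod.mk.injEq] at h
    have h0 := H (crd y - crd z) (by rw [tf_sub, hf y y.2, hf z z.2]) (by simp [h.1]) (by simp [h.2.1]) (by simp [h.2.2])
    have h1 : crd (y : P) = crd z := sub_eq_zero.1 h0
    refine Subtype.ext ?_
    rw [← vec_crd (hD y.2), h1, vec_crd (hD z.2)]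
  have h1 := Nat.card_le_card_of_injective _ hinj
  rwa [Nat.card_prod, Nat.card_prod, Nat.card_zmod] at h1

/-- `P → GL(V)` -/
def toL : P →* Lin.L where
  toFun x := Lin.tl x.a x.b x.c
  map_one' := Lin.tl_one
  map_mul' x y := (Lin.tl_mul x.a x.b x.c y.a y.b y.c).symm

theorem tl_inj {a b c a' b' c' : ZMod 3} (h : Lin.tl a b c = Lin.tl a' b' c') : a = a' ∧ b = b' ∧ c = c' := by
  have h1 : ∀ v, Lin.tf a b c v = Lin.tf a' b' c' v := fun v => by
    rw [← Lin.tl_apply, h, Lin.tl_apply]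
  have h5 := h1 ![0, 0, 0, 0, 0, 1]
  have h2 := h1 ![0, 0, 1, 0, 0, 0]
  refine ⟨?_, ?_, ?_⟩
  · simpa [Lin.tf] using congrFun h2 1
  · simpa [Lin.tf] using congrFun h5 4
  · simpa [Lin.tf] using congrFun h5 3

theorem card_T : Nat.card Lin.T = 27 := by
  have e : ZMod 3 × ZMod 3 × ZMod 3 ≃ Lin.T := by
    refine Equiv.ofBijective (fun t => ⟨Lin.tl t.1 t.2.1 t.2.2, _, _, _, rfl⟩) ⟨?_, ?_⟩
    · rintro ⟨a, b, c⟩ ⟨a', b', c'⟩ h
      obtain ⟨h1, h2, h3⟩ := tl_inj (congrArg Subtype.val h)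
      rw [Prod.mk.injEq, Prod.mk.injEq]
      exact ⟨h1, h2, h3⟩
    · rintro ⟨g, a, b, c, rfl⟩
      exact ⟨(a, b, c), rfl⟩
  rw [← Nat.card_congr e, Nat.card_prod, Nat.card_prod, Nat.card_zmod]

theorem A_unique' {B : Subgroup P} (h1 : Nat.card B = 3 ^ 6) (h3 : ∀ x ∈ B, ∀ y ∈ B, x * y = y * x) : B = A := by
  by_contra hne
  have hBA : ¬ B ≤ A := fun hle => hne (Subgroup.eq_of_le_of_card_ge hle (by rw [card_A, h1]))
  obtain ⟨x, hxB, hxA⟩ := SetLike.not_le_iff_exists.1 hBA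
  have k1 : Nat.card ↥(B ⊓ A) ≤ 27 := card_fix_le hxA inf_le_right fun y hy => h3 x hxB y hy.1
  have k2 : Nat.card (toL.comp B.subtype).ker ≤ 27 := by
    refine le_trans (Nat.card_le_card_of_injective (β := ↥(B ⊓ A)) (fun y => ⟨(y : B), (y : B).2, ?_⟩) ?_) k1
    · have h : Lin.tl ((y : B) : P).a ((y : B) : P).b ((y : B) : P).c = Lin.tl 0 0 0 := by
        rw [Lin.tl_one]
        exact y.2
      exact tl_inj h
    · intro y z h
      exact Subtype.ext (Subtype.ext (congrArg (fun t : ↥(B ⊓ A) => (t : P)) h))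
  have k3 := Subgroup.card_mul_index (toL.comp B.subtype).ker
  rw [Subgroup.index_ker, h1] at k3
  have k4 : 27 ≤ Nat.card (toL.comp B.subtype).range := by
    by_contra hlt
    have := Nat.mul_le_mul k2 (Nat.le_of_lt_succ (not_le.1 hlt))
    rw [k3] at this
    norm_num at this
  have hle : (toL.comp B.subtype).range ≤ Lin.T := by
    rintro _ ⟨y, rfl⟩
    exact ⟨_, _, _, rfl⟩
  have : Finite Lin.T := Nat.finite_of_card_ne_zero (by rw [card_T]; decide)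
  have heq : (toL.comp B.subtype).range = Lin.T := Subgroup.eq_of_le_of_card_ge hle (by rw [card_T]; exact k4)
  have m1 : Lin.tl 1 0 0 ∈ (toL.comp B.subtype).range := by
    rw [heq]
    exact ⟨_, _, _, rfl⟩
  have m2 : Lin.tl 0 1 0 ∈ (toL.comp B.subtype).range := by
    rw [heq]
    exact ⟨_, _, _, rfl⟩
  obtain ⟨y, hy⟩ := m1
  obtain ⟨z, hz⟩ := m2
  obtain ⟨y1, y2, -⟩ := tl_inj hy
  obtain ⟨z1, z2, -⟩ := tl_inj hz
  have h5 := congrArg P.c (h3 y y.2 z z.2)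
  rw [mul_c, mul_c] at h5
  have y1' : (y : P).a = 1 := y1
  have y2' : (y : P).b = 0 := y2
  have z1' : (z : P).a = 0 := z1
  have z2' : (z : P).b = 1 := z2
  rw [y1', y2', z1', z2', mul_one, mul_zero, add_zero, add_comm (z : P).c] at h5
  exact one_ne_zero (add_eq_left.1 h5)

theorem A_unique {B : Subgroup P} (h1 : Nat.card B = 3 ^ 6) (_h2 : ∀ x ∈ B, x ^ 3 = 1) (h3 : ∀ x ∈ B, ∀ y ∈ B, x * y = y * x) : B = A :=
  A_unique' h1 h3

/-! ### maps of the system defined on an overgroup of `A` -/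

theorem mem_of_A {F : FusionSystem (⊤ : Subgroup P)} {R : Subgroup P} {f : P → P} (hR : A ≤ R) (hf : Mp F R f) : ∀ x ∈ A, f x ∈ A := by
  obtain ⟨B, hB, -, hc⟩ := hf.exists_image hR
  have : B = A := by
    refine A_unique (hc.trans card_A) (fun y hy => ?_) (fun y hy z hz => ?_)
    · obtain ⟨x, hx, rfl⟩ := (hB y).1 hy
      rw [← hf.pow (hR hx), A_pow hx, hf.one]
    · obtain ⟨x, hx, rfl⟩ := (hB y).1 hy
      obtain ⟨x', hx', rfl⟩ := (hB z).1 hz
      rw [← hf.mul (hR hx) (hR hx'), A_comm hx hx', hf.mul (hR hx') (hR hx)]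
  intro x hx
  rw [← this, hB]
  exact ⟨x, hx, rfl⟩

/-- an additive injective map of `V` is linear -/
theorem exists_lin {f : Lin.V → Lin.V} (hadd : ∀ u v, f (u + v) = f u + f v) (hinj : Function.Injective f) :
    ∃ g : Lin.L, ∀ v, g v = f v := by
  let φ : Lin.V →+ Lin.V := AddMonoidHom.mk' f hadd
  let ψ : Lin.V →ₗ[ZMod 3] Lin.V := φ.toZModLinearMap 3
  exact ⟨LinearEquiv.ofInjectiveEndo ψ (fun u v h => hinj h), fun v => rfl⟩

theorem exists_lft {f : P → P} (hmem : ∀ x ∈ A, f x ∈ A) (hmul : ∀ x ∈ A, ∀ y ∈ A, f (x * y) = f x * f y)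
    (hinj : ∀ x ∈ A, ∀ y ∈ A, f x = f y → x = y) : ∃ g : Lin.L, ∀ x ∈ A, f x = lft g x := by
  obtain ⟨g, hg⟩ := exists_lin (f := fun v => crd (f (vec v)))
    (fun u v => by
      apply vec_injective
      rw [vec_crd (hmem _ (vec_mem _)), vec_add, vec_add, vec_crd (hmem _ (vec_mem _)), vec_crd (hmem _ (vec_mem _)),
        hmul _ (vec_mem _) _ (vec_mem _)])
    (fun u v h => by
      have h1 := congrArg vec h
      simp only [vec_crd (hmem _ (vec_mem _))] at h1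
      exact vec_injective (hinj _ (vec_mem _) _ (vec_mem _) h1))
  refine ⟨g, fun x hx => ?_⟩
  rw [lft, hg, vec_crd hx, vec_crd (hmem x hx)]

theorem exists_GF {F : FusionSystem (⊤ : Subgroup P)} {R : Subgroup P} {f : P → P} (hR : A ≤ R) (hf : Mp F R f) :
    ∃ g ∈ GF F, ∀ x ∈ A, f x = lft g x := by
  obtain ⟨g, hg⟩ := exists_lft (mem_of_A hR hf) (fun x hx y hy => hf.mul (hR hx) (hR hy))
    (fun x hx y hy h => hf.inj (hR hx) (hR hy) h)
  exact ⟨g, (hf.res hR).congr fun x hx => (hg x hx).symm, hg⟩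

/-- the action of `f r` on `A` -/
theorem conj_tl {F : FusionSystem (⊤ : Subgroup P)} {R : Subgroup P} {f : P → P} (hR : A ≤ R) (hf : Mp F R f)
    {g : Lin.L} (hg : ∀ x ∈ A, f x = lft g x) {r : P} (hr : r ∈ R) :
    Lin.tl (f r).a (f r).b (f r).c = g * Lin.tl r.a r.b r.c * g⁻¹ := by
  rw [eq_mul_inv_iff_mul_eq]
  refine LinearEquiv.ext fun v => ?_
  apply vec_injective
  rw [LinearEquiv.mul_apply, LinearEquiv.mul_apply, Lin.tl_apply, Lin.tl_apply, ← conj_vec, ← lft_vec, ← lft_vec,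
    ← conj_vec, ← hg _ (vec_mem _), ← hg _ (A_conj_mem r (vec_mem v)), hf.mul (mul_mem hr (hR (vec_mem _))) (inv_mem hr),
    hf.mul hr (hR (vec_mem _)), hf.inv hr]

/-- conjugation on `A` as `lft` -/
theorem conj_eq_lft (s : P) {x : P} (hx : x ∈ A) : s * x * s⁻¹ = lft (Lin.tl s.a s.b s.c) x := by
  obtain ⟨v, rfl⟩ := exists_vec hx
  rw [conj_vec, lft_vec, Lin.tl_apply]

theorem lft_inj {g h : Lin.L} (H : ∀ x ∈ A, lft g x = lft h x) : g = h := by
  refine LinearEquiv.ext fun v => vec_injective ?_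
  rw [← lft_vec, ← lft_vec, H _ (vec_mem v)]

theorem conj_mk (a b c : ZMod 3) {x : P} (hx : x ∈ A) :
    (⟨a, b, c, 0, 0, 0, 0, 0, 0⟩ : P) * x * (⟨a, b, c, 0, 0, 0, 0, 0, 0⟩ : P)⁻¹ = lft (Lin.tl a b c) x :=
  conj_eq_lft ⟨a, b, c, 0, 0, 0, 0, 0, 0⟩ hx

theorem T_le_GF (F : FusionSystem (⊤ : Subgroup P)) : Lin.T ≤ GF F := by
  rintro g ⟨a, b, c, hg⟩
  rw [hg, mem_GF]
  have h := mp_conj F (P := A) le_top (s := (⟨a, b, c, 0, 0, 0, 0, 0, 0⟩ : P)) (mem_top _)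
  exact h.congr fun x hx => (conj_mk a b c hx).symm

/-! ### `A` is weakly closed, hence fully automized and receptive -/

theorem eq_A_of_isConj {F : FusionSystem (⊤ : Subgroup P)} {Q : Subgroup P} (h : F.IsConj A Q) : Q = A := by
  obtain ⟨φ, hφ, rfl⟩ := h
  refine le_antisymm ?_ ?_
  · rintro _ ⟨x, rfl⟩
    have := mem_of_A le_rfl (mp_ex hφ) x x.2
    rwa [ex_coe] at this
  · have hle : φ.range ≤ A := by
      rintro _ ⟨x, rfl⟩
      have := mem_of_A le_rfl (mp_ex hφ) x x.2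
      rwa [ex_coe] at this
    have hc := H802.isConj_card_eq (H802.isConj_range hφ)
    exact (Subgroup.eq_of_le_of_card_ge hle hc.le).ge

theorem aut_rec {F : FusionSystem (⊤ : Subgroup P)} (hF : F.IsSaturated 3) : F.IsFullyAutomized 3 A ∧ F.IsReceptive A := by
  obtain ⟨Q, hQ, h1, h2⟩ := hF A le_top
  rw [eq_A_of_isConj hQ] at h1 h2
  exact ⟨h1, h2⟩

theorem ext_GF {F : FusionSystem (⊤ : Subgroup P)} (hF : F.IsSaturated 3) {g : Lin.L} (hg : g ∈ GF F) {R : Subgroup P} (hR : A ≤ R)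
    (hn : ∀ r ∈ R, g * Lin.tl r.a r.b r.c * g⁻¹ ∈ Lin.T) :
    ∃ f, Mp F R f ∧ (∀ x ∈ A, f x = lft g x) ∧ ∀ r ∈ R, Lin.tl (f r).a (f r).b (f r).c = g * Lin.tl r.a r.b r.c * g⁻¹ := by
  obtain ⟨φ, hφ, h1⟩ := mem_GF.1 hg
  have hr : φ.range = A := eq_A_of_isConj ⟨φ, hφ, rfl⟩
  obtain ⟨ψ, hψ, h2⟩ := (aut_rec hF).2.2 A φ hφ hr
  have hRe : R ≤ extender ⊤ A φ := by
    intro r hr
    rw [H802.mem_extender_iff]
    obtain ⟨a, b, c, h3⟩ := hn r hr
    refine ⟨mem_top _, mem_normalizer_A r, ⟨a, b, c, 0, 0, 0, 0, 0, 0⟩, mem_top _, fun x hx => ?_⟩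
    rw [h1, h1, conj_eq_lft _ (lft_mem _ _), ← h3, conj_eq_lft _ x.2, ← lft_mul, ← lft_mul]
    congr 1
    group
  have hf : Mp F R (ex ψ) := (mp_ex hψ).res hRe
  have hfA : ∀ x ∈ A, ex ψ x = lft g x := fun x hx => by
    rw [ex_apply _ (hRe (hR hx)), h2 x hx, h1]
  exact ⟨_, hf, hfA, fun r hr => conj_tl hR hf hfA hr⟩

/-! ### the Sylow property -/

/-- `GL(V) → Aut(A)` -/
def toAut : Lin.L →* MulAut A where
  toFun g :=
    { toFun := fun x => ⟨lft g x, lft_mem g x⟩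
      invFun := fun x => ⟨lft g⁻¹ x, lft_mem _ x⟩
      left_inv := fun x => Subtype.ext (by
        show lft g⁻¹ (lft g x) = x
        rw [← lft_mul, inv_mul_cancel, lft_one x.2])
      right_inv := fun x => Subtype.ext (by
        show lft g (lft g⁻¹ x) = x
        rw [← lft_mul, mul_inv_cancel, lft_one x.2])
      map_mul' := fun x y => Subtype.ext (by
        obtain ⟨_, hx⟩ := x
        obtain ⟨_, hy⟩ := y
        obtain ⟨u, rfl⟩ := exists_vec hx
        obtain ⟨v, rfl⟩ := exists_vec hy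
        show lft g (vec u * vec v) = lft g (vec u) * lft g (vec v)
        rw [← vec_add, lft_vec, lft_vec, lft_vec, map_add, vec_add]) }
  map_one' := MulEquiv.ext fun x => Subtype.ext (lft_one x.2)
  map_mul' g h := MulEquiv.ext fun x => Subtype.ext (lft_mul g h x)

theorem toAut_coe (g : Lin.L) (x : A) : ((toAut g x : A) : P) = lft g x := rfl

theorem toAut_surjective : Function.Surjective toAut := by
  intro α
  obtain ⟨g, hg⟩ := exists_lft (f := ex fun x => ((α x : A) : P))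
    (fun x hx => by rw [ex_apply _ hx]; exact (α ⟨x, hx⟩).2)
    (fun x hx y hy => by
      rw [ex_apply _ hx, ex_apply _ hy, ex_apply _ (mul_mem hx hy)]
      exact congrArg Subtype.val (map_mul α ⟨x, hx⟩ ⟨y, hy⟩))
    (fun x hx y hy h => by
      rw [ex_apply _ hx, ex_apply _ hy] at h
      exact congrArg Subtype.val (α.injective (Subtype.ext h)))
  refine ⟨g, MulEquiv.ext fun x => Subtype.ext ?_⟩
  rw [toAut_coe, ← hg x x.2, ex_coe]

theorem comap_autGroup (F : FusionSystem (⊤ : Subgroup P)) : (F.autGroup A).comap toAut = GF F := by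
  ext g
  rw [mem_comap, mp_iff_autGroup le_top, mem_GF]
  exact ⟨fun h => h.congr fun x hx => by rw [ex_apply _ hx, toAut_coe],
    fun h => h.congr fun x hx => by rw [ex_apply _ hx, toAut_coe]⟩

theorem comap_autInducedBy : (autInducedBy (⊤ : Subgroup P) A).comap toAut = Lin.T := by
  ext g
  rw [mem_comap, H802.mem_autInducedBy_iff]
  constructor
  · rintro ⟨s, -, h⟩
    refine ⟨s.a, s.b, s.c, lft_inj fun x hx => ?_⟩
    rw [← conj_eq_lft s hx, ← h ⟨x, hx⟩, toAut_coe]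
  · rintro ⟨a, b, c, rfl⟩
    refine ⟨⟨a, b, c, 0, 0, 0, 0, 0, 0⟩, mem_top _, fun x => ?_⟩
    rw [toAut_coe, conj_eq_lft _ x.2]

theorem syl_GF {F : FusionSystem (⊤ : Subgroup P)} (hF : F.IsSaturated 3) : Lin.Syl (GF F) := by
  refine ⟨T_le_GF F, ?_⟩
  obtain ⟨-, R, hR⟩ := (aut_rec hF).1
  have h1 : ¬ 3 ∣ (R : Subgroup (F.autGroup A)).index := R.not_dvd_index
  rw [hR] at h1
  rw [← comap_autInducedBy, relIndex_comap, ← comap_autGroup, map_comap_eq_self_of_surjective toAut_surjective]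
  exact h1

/-! ### signs -/

theorem tor_vec (e1 e2 e3 : ZMod 3) (v : Lin.V) : tor e1 e2 e3 (vec v) = vec (Lin.sf e1 e2 e3 v) := by
  ext <;> simp [tor, vec, Lin.sf]

theorem tor_one {e1 e2 : ZMod 3} (e3 : ZMod 3) : tor e1 e2 e3 1 = 1 := by
  ext <;> simp [tor]

theorem tor_inv {e1 e2 e3 : ZMod 3} (h1 : e1 ^ 2 = 1) (h2 : e2 ^ 2 = 1) (x : P) :
    tor e1 e2 e3 x⁻¹ = (tor e1 e2 e3 x)⁻¹ := by
  rw [eq_inv_iff_mul_eq_one, ← tor_mul h1 h2, inv_mul_cancel, tor_one]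

/-- signs normalise `T` -/
theorem sf_tf {e1 e2 e3 : ZMod 3} (h1 : e1 ^ 2 = 1) (h2 : e2 ^ 2 = 1) (a b c : ZMod 3) (v : Lin.V) :
    Lin.sf e1 e2 e3 (Lin.tf a b c v) = Lin.tf (e1 * a) (e2 * b) (e1 * e2 * c) (Lin.sf e1 e2 e3 v) := by
  apply vec_injective
  have h := conj_vec (⟨a, b, c, 0, 0, 0, 0, 0, 0⟩ : P) v
  have h3 := congrArg (tor e1 e2 e3) h
  rw [tor_vec, tor_mul h1 h2, tor_mul h1 h2, tor_inv h1 h2, tor_vec, conj_vec] at h3
  exact h3.symm

theorem sign_conj {e1 e2 e3 : ZMod 3} (h1 : e1 ^ 2 = 1) (h2 : e2 ^ 2 = 1) {g : Lin.L} (hg : ∀ v, g v = Lin.sf e1 e2 e3 v)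
    {t : Lin.L} (ht : t ∈ Lin.T) : g * t * g⁻¹ ∈ Lin.T := by
  obtain ⟨a, b, c, rfl⟩ := ht
  refine ⟨e1 * a, e2 * b, e1 * e2 * c, ?_⟩
  rw [mul_inv_eq_iff_eq_mul]
  refine LinearEquiv.ext fun v => ?_
  rw [LinearEquiv.mul_apply, LinearEquiv.mul_apply, Lin.tl_apply, Lin.tl_apply, hg, hg, sf_tf h1 h2]

theorem norm_aux {F : FusionSystem (⊤ : Subgroup P)} (h : Nrm F) {g : Lin.L} (hg : g ∈ GF F)
    (hn : ∀ t ∈ Lin.T, g * t * g⁻¹ ∈ Lin.T) : ∃ f, Mp F ⊤ f ∧ ∃ (s : P) (e1 e2 e3 : ZMod 3), e1 ^ 2 = 1 ∧ e2 ^ 2 = 1 ∧ e3 ^ 2 = 1 ∧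
      (∀ x, f x = s * tor e1 e2 e3 x * s⁻¹) ∧ ∀ v, g v = Lin.tf s.a s.b s.c (Lin.sf e1 e2 e3 v) := by
  obtain ⟨f, hf, hfA, -⟩ := ext_GF h.sat hg (R := ⊤) le_top (fun r _ => hn _ ⟨r.a, r.b, r.c, rfl⟩)
  obtain ⟨s, e1, e2, e3, h1, h2, h3, hs⟩ := h.tor f hf
  refine ⟨f, hf, s, e1, e2, e3, h1, h2, h3, hs, fun v => ?_⟩
  apply vec_injective
  rw [← lft_vec, ← hfA _ (vec_mem v), hs, tor_vec, conj_vec]

theorem norm_GF {F : FusionSystem (⊤ : Subgroup P)} (h : Nrm F) : ∀ g ∈ GF F, (∀ t ∈ Lin.T, g * t * g⁻¹ ∈ Lin.T) →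
    ∃ t ∈ Lin.T, Lin.IsSign (t * g) := by
  intro g hg hn
  obtain ⟨f, hf, s, e1, e2, e3, h1, h2, h3, hs, hv⟩ := norm_aux h hg hn
  refine ⟨(Lin.tl s.a s.b s.c)⁻¹, inv_mem ⟨_, _, _, rfl⟩, e1, e2, e3, h1, h2, h3, fun v => ?_⟩
  rw [LinearEquiv.mul_apply, hv, ← Lin.tl_apply, ← LinearEquiv.mul_apply, inv_mul_cancel, LinearEquiv.coe_one, id]

theorem sign_uniq {a b c e1 e2 e3 d1 d2 d3 : ZMod 3} (h3 : e3 ^ 2 = 1)
    (h : ∀ v, Lin.sf d1 d2 d3 v = Lin.tf a b c (Lin.sf e1 e2 e3 v)) : a = 0 ∧ b = 0 ∧ c = 0 ∧ d1 = e1 ∧ d2 = e2 ∧ d3 = e3 := by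
  have k5 := h ![0, 0, 0, 0, 0, 1]
  have k2 := h ![0, 0, 1, 0, 0, 0]
  have k1 := h ![0, 1, 0, 0, 0, 0]
  have k4 := h ![0, 0, 0, 0, 1, 0]
  have e : e3 * e3 = 1 := by rw [← pow_two, h3]
  have a5 := congrFun k5 5
  have a4 := congrFun k5 4
  have a3 := congrFun k5 3
  have b1 := congrFun k2 1
  have c1 := congrFun k1 1
  have d4 := congrFun k4 4
  simp only [Lin.sf, Lin.tf, Matrix.cons_val, mul_zero, mul_one, zero_add, add_zero] at a5 a4 a3 b1 c1 d4
  subst a5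
  have ha : a = 0 := by linear_combination d3 * (-b1) - a * e
  have hb : b = 0 := by linear_combination d3 * (-a4) - b * e
  have hc : c = 0 := by linear_combination d3 * (-a3) - c * e
  exact ⟨ha, hb, hc, by linear_combination d3 * c1 - (d1 - e1) * e, by linear_combination d3 * d4 - (d2 - e2) * e, rfl⟩

theorem sign_lift {F : FusionSystem (⊤ : Subgroup P)} (h : Nrm F) {e1 e2 e3 : ZMod 3} (h1 : e1 ^ 2 = 1) (h2 : e2 ^ 2 = 1) (_h3 : e3 ^ 2 = 1)
    (hg : ∃ g ∈ GF F, ∀ v, g v = Lin.sf e1 e2 e3 v) : Mp F ⊤ (tor e1 e2 e3) := by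
  obtain ⟨g, hg, hv⟩ := hg
  obtain ⟨f, hf, s, d1, d2, d3, k1, k2, k3, hs, hw⟩ := norm_aux h hg fun t ht => sign_conj h1 h2 hv ht
  obtain ⟨-, -, -, rfl, rfl, rfl⟩ := sign_uniq k3 fun v => (hv v).symm.trans (hw v)
  refine (hf.comp (mp_conj F (P := ⊤) le_top (s := s⁻¹) (mem_top _)) fun x _ => mem_top _).congr fun x _ => ?_
  show _ = s⁻¹ * f x * s⁻¹⁻¹
  rw [hs]
  group

/-- `GF` is determined by `Mp F ⊤` up to `T` -/
theorem norm_GF' {F F' : FusionSystem (⊤ : Subgroup P)} (hF : F.IsSaturated 3) (htop : ∀ f, Mp F ⊤ f → Mp F' ⊤ f) :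
    ∀ g ∈ GF F, (∀ t ∈ Lin.T, g * t * g⁻¹ ∈ Lin.T) → g ∈ GF F' := by
  intro g hg hn
  obtain ⟨f, hf, hfA, -⟩ := ext_GF hF hg (R := ⊤) le_top (fun r _ => hn _ ⟨r.a, r.b, r.c, rfl⟩)
  exact ((htop f hf).res le_top).congr fun x hx => (hfA x hx).symm

end Cfsg.Agent.H975.Co1
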